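import Mathlib
import Cfsg.Agent.Lib.Zsigmondy

/-!
# Arithmetic for the module bound

Prime powers `N` dividing `2 ^ a + 1` modulo which `2` has order `2 * a`; elements of a finite field of the form
`ζ + ζ⁻¹`.
-/

set_option autoImplicit false

namespace Cfsg.Agent.BenderMod.Arith

/-- `N = p ^ j`, `N ∣ 2 ^ a + 1`, and the order of `2` modulo `N` is a multiple of `2 * a`. -/
theorem exists_dvd {a : ℕ} (ha : 2 ≤ a) : ∃ p j : ℕ, p.Prime ∧ 1 ≤ j ∧ p ^ j ∣ 2 ^ a + 1 ∧
    ∀ m, p ^ j ∣ 2 ^ m - 1 → 2 * a ∣ m := by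
  by_cases h3 : a = 3
  · subst h3
    refine ⟨3, 2, Nat.prime_three, by norm_num, by norm_num, fun m hm => ?_⟩
    have h1 : (3 : ℕ) ^ 2 = 9 := by norm_num
    rw [h1] at hm
    have key : ∀ r < 6, (9 ∣ 2 ^ r - 1) → r = 0 := by decide
    have h2 : m = 6 * (m / 6) + m % 6 := by omega
    have h3 : m % 6 < 6 := Nat.mod_lt _ (by norm_num)
    have h4 : 9 ∣ 2 ^ (m % 6) - 1 := by
      have h5 : (2 ^ m : ℕ) ≡ 1 [MOD 9] :=
        ((Nat.modEq_iff_dvd' (Nat.one_le_two_pow)).2 hm).symm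
      have h6 : (2 ^ 6 : ℕ) ≡ 1 [MOD 9] := by decide
      have h7 : (2 ^ m : ℕ) ≡ 2 ^ (m % 6) [MOD 9] := by
        conv_lhs => rw [h2, pow_add, pow_mul]
        calc (2 ^ 6) ^ (m / 6) * 2 ^ (m % 6) ≡ 1 ^ (m / 6) * 2 ^ (m % 6) [MOD 9] :=
              Nat.ModEq.mul_right _ (h6.pow _)
          _ = 2 ^ (m % 6) := by rw [one_pow, one_mul]
      exact (Nat.modEq_iff_dvd' (Nat.one_le_two_pow)).1 (h7.symm.trans h5).symm
    have h5 := key _ h3 h4
    omega
  · obtain ⟨r, hr, h1, h2, h4⟩ := Cfsg.Agent.Lib.Zsigmondy.exists_primitive (a := 2) (n := 2 * a)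
      le_rfl (by omega) (by omega) (by omega)
    refine ⟨r, 1, hr, le_rfl, ?_, fun m hm => (h1 m).1 (by rwa [pow_one] at hm)⟩
    rw [pow_one]
    have h5 : r ∣ 2 ^ (2 * a) - 1 := (h1 _).2 dvd_rfl
    have h6 : (2 : ℕ) ^ (2 * a) - 1 = (2 ^ a + 1) * (2 ^ a - 1) := by
      have h7 : 1 ≤ 2 ^ a := Nat.one_le_two_pow
      obtain ⟨k, hk⟩ := Nat.exists_eq_add_of_le h7
      rw [mul_comm 2 a, pow_mul, hk]
      have : (1 + k) ^ 2 - 1 = k * k + 2 * k := by
        have : (1 + k) ^ 2 = k * k + 2 * k + 1 := by ring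
        omega
      rw [this]
      have : 1 + k - 1 = k := by omega
      rw [this]
      ring
    rw [h6] at h5
    rcases hr.dvd_mul.1 h5 with h7 | h7
    · exact h7
    · exfalso
      have h8 := Nat.le_of_dvd (by omega) ((h1 a).1 h7)
      omega

/-- `p ∣ 2 ^ (2 * a) + 1`, and the order of `2` modulo `p` is a multiple of `4 * a`. -/
theorem exists_dvd_sq {a : ℕ} (ha : 2 ≤ a) : ∃ p : ℕ, p.Prime ∧ p ∣ 2 ^ (2 * a) + 1 ∧
    ∀ m, p ∣ 2 ^ m - 1 → 4 * a ∣ m := by
  obtain ⟨r, hr, h1, h2, h4⟩ := Cfsg.Agent.Lib.Zsigmondy.exists_primitive (a := 2) (n := 4 * a)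
    le_rfl (by omega) (by omega) (by omega)
  refine ⟨r, hr, ?_, fun m hm => (h1 m).1 hm⟩
  have h5 : r ∣ 2 ^ (4 * a) - 1 := (h1 _).2 dvd_rfl
  have h6 : (2 : ℕ) ^ (4 * a) - 1 = (2 ^ (2 * a) + 1) * (2 ^ (2 * a) - 1) := by
    have h7 : 1 ≤ 2 ^ (2 * a) := Nat.one_le_two_pow
    obtain ⟨k, hk⟩ := Nat.exists_eq_add_of_le h7
    have h8 : 4 * a = 2 * a * 2 := by ring
    rw [h8, pow_mul, hk]
    have : (1 + k) ^ 2 - 1 = k * k + 2 * k := by
      have : (1 + k) ^ 2 = k * k + 2 * k + 1 := by ring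
      omega
    rw [this]
    have : 1 + k - 1 = k := by omega
    rw [this]
    ring
  rw [h6] at h5
  rcases hr.dvd_mul.1 h5 with h7 | h7
  · exact h7
  · exfalso
    have h8 := Nat.le_of_dvd (by omega) ((h1 _).1 h7)
    omega

section Field

variable {F K : Type*} [Field F] [Field K] [Algebra F K]

/-- An element of an extension of the finite field `F` fixed by `x ↦ x ^ |F|` is in `F`. -/
theorem exists_algebraMap_eq [Fintype F] {x : K} (hx : x ^ Fintype.card F = x) :
    ∃ s : F, algebraMap F K s = x := by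
  classical
  by_contra hcon
  push Not at hcon
  set P : Polynomial K := Polynomial.X ^ Fintype.card F - Polynomial.X with hP
  have hq : 1 < Fintype.card F := Fintype.one_lt_card
  have hP0 : P ≠ 0 := FiniteField.X_pow_card_sub_X_ne_zero K hq
  have hdeg : P.natDegree = Fintype.card F := FiniteField.X_pow_card_sub_X_natDegree_eq K hq
  have hroot : ∀ y : K, y ^ Fintype.card F = y → y ∈ P.roots.toFinset := by
    intro y hy
    rw [Multiset.mem_toFinset, Polynomial.mem_roots hP0, Polynomial.IsRoot.def, hP]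
    simp [hy]
  have h1 : insert x ((Finset.univ : Finset F).image (algebraMap F K)) ⊆ P.roots.toFinset := by
    intro y hy
    rw [Finset.mem_insert, Finset.mem_image] at hy
    rcases hy with rfl | ⟨s, -, rfl⟩
    · exact hroot _ hx
    · apply hroot
      rw [← map_pow, FiniteField.pow_card]
  have h2 := Finset.card_le_card h1
  rw [Finset.card_insert_of_notMem (by
    rw [Finset.mem_image]
    rintro ⟨s, -, hs⟩
    exact hcon s hs), Finset.card_image_of_injective _ (algebraMap F K).injective,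
    Finset.card_univ] at h2
  have h3 : P.roots.toFinset.card ≤ Fintype.card F :=
    (Multiset.toFinset_card_le _).trans ((Polynomial.card_roots' P).trans hdeg.le)
  omega

end Field

/-- A primitive root of unity of odd order in an algebraically closed field of characteristic two. -/
theorem exists_primitiveRoot {K : Type*} [Field K] [IsAlgClosed K] [CharP K 2] {N : ℕ} (hN : Odd N) :
    ∃ ζ : K, IsPrimitiveRoot ζ N := by
  have h1 : (N : K) ≠ 0 := by
    intro h
    rw [CharP.cast_eq_zero_iff K 2] at h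
    exact (Nat.not_even_iff_odd.2 hN) (even_iff_two_dvd.2 h)
  have : NeZero (N : K) := ⟨h1⟩
  exact HasEnoughRootsOfUnity.exists_primitiveRoot K N

theorem odd_of_dvd_two_pow_add_one {N a : ℕ} (ha : 1 ≤ a) (h : N ∣ 2 ^ a + 1) : Odd N := by
  rw [← Nat.not_even_iff_odd]
  intro h2
  have h3 : 2 ∣ 2 ^ a + 1 := (even_iff_two_dvd.1 h2).trans h
  have h4 : 2 ∣ 2 ^ a := dvd_pow_self 2 (by omega)
  omega

end Cfsg.Agent.BenderMod.Arith
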