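import Cfsg.Agent.BenderMod.Arith

/-!
# Two involutions of `PSL₂(2^n)` whose product has large order
-/

set_option autoImplicit false

namespace Cfsg.Agent.BenderMod

open Matrix

/-- `L` has two involutions whose product has order divisible by a prime power modulo which the
order of `2` is at least `2 * a`. -/
def Pair (L : Type*) [Group L] (a : ℕ) : Prop :=
  ∃ x y : L, orderOf x = 2 ∧ orderOf y = 2 ∧ ∃ p j : ℕ, p.Prime ∧ p ≠ 2 ∧ 1 ≤ j ∧
    (∀ k : ℕ, (x * y) ^ k = 1 → p ^ j ∣ k) ∧ ∀ m : ℕ, p ^ j ∣ 2 ^ m - 1 → m = 0 ∨ 2 * a ≤ m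

theorem Pair.congr {L L' : Type*} [Group L] [Group L'] {a : ℕ} (h : Pair L a) (e : L ≃* L') :
    Pair L' a := by
  obtain ⟨x, y, hx, hy, p, j, hp, hp2, hj, h1, h2⟩ := h
  refine ⟨e x, e y, by rw [MulEquiv.orderOf_eq, hx], by rw [MulEquiv.orderOf_eq, hy], p, j, hp, hp2, hj,
    fun k hk => h1 k ?_, h2⟩
  rw [← map_mul, ← map_pow] at hk
  exact e.injective (hk.trans (map_one e).symm)

theorem pow_mulVec {n K : Type*} [Fintype n] [DecidableEq n] [CommRing K] {M : Matrix n n K}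
    {v : n → K} {ζ : K} (h : M *ᵥ v = ζ • v) (k : ℕ) : (M ^ k) *ᵥ v = ζ ^ k • v := by
  induction k with
  | zero => simp
  | succ k ih => rw [pow_succ, ← Matrix.mulVec_mulVec, h, Matrix.mulVec_smul, ih, smul_smul, pow_succ,
      mul_comm]

theorem pow_eq_one_of_mulVec {n F K : Type*} [Fintype n] [DecidableEq n] [Field F] [Field K]
    (f : F →+* K) {M : Matrix n n F} {v : n → K} {ζ : K} (h : (M.map f) *ᵥ v = ζ • v) (hv : v ≠ 0)
    {k : ℕ} (hk : M ^ k = 1) : ζ ^ k = 1 := by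
  have h1 : (M.map f) ^ k = 1 := by
    have h2 : M.map f = f.mapMatrix M := rfl
    rw [h2, ← map_pow, hk, map_one]
  have h3 := pow_mulVec h k
  rw [h1, Matrix.one_mulVec] at h3
  obtain ⟨i, hi⟩ := Function.ne_iff.1 hv
  have h4 := congrFun h3 i
  rw [Pi.smul_apply, smul_eq_mul] at h4
  exact (mul_right_cancel₀ hi (by rw [one_mul]; exact h4)).symm

/-- An element `s` of `F` which is the sum `ζ + ζ⁻¹` for a primitive root of unity of order `N`. -/
theorem exists_trace {F : Type*} [Field F] [Fintype F] [CharP F 2] {q N : ℕ}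
    (hq : ∀ x : AlgebraicClosure F, x ^ q = x → x ^ Fintype.card F = x) (hq2 : ∃ n, q = 2 ^ n)
    (hN : Odd N) (hNq : N ∣ q + 1) :
    ∃ (ζ : AlgebraicClosure F) (s : F), IsPrimitiveRoot ζ N ∧
      algebraMap F (AlgebraicClosure F) s = ζ + ζ⁻¹ ∧ s ^ q = s := by
  have : CharP (AlgebraicClosure F) 2 := charP_of_injective_algebraMap (algebraMap F _).injective 2
  obtain ⟨ζ, hζ⟩ := Arith.exists_primitiveRoot (K := AlgebraicClosure F) hN
  have hζ0 : ζ ≠ 0 := hζ.ne_zero (by rintro rfl; exact absurd hN (by decide))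
  obtain ⟨n, rfl⟩ := hq2
  have h1 : ζ ^ (2 ^ n) = ζ⁻¹ := by
    apply eq_inv_of_mul_eq_one_left
    rw [← pow_succ]
    obtain ⟨c, hc⟩ := hNq
    rw [hc, pow_mul, hζ.pow_eq_one, one_pow]
  have h2 : (ζ + ζ⁻¹) ^ (2 ^ n) = ζ + ζ⁻¹ := by
    rw [add_pow_char_pow, inv_pow, h1, inv_inv, add_comm]
  obtain ⟨s, hs⟩ := Arith.exists_algebraMap_eq (F := F) (hq _ h2)
  refine ⟨ζ, s, hζ, hs, ?_⟩
  apply (algebraMap F (AlgebraicClosure F)).injective
  rw [map_pow, hs, h2]

theorem add_inv_ne_zero {K : Type*} [Field K] [CharP K 2] {ζ : K} {N : ℕ} (hζ : IsPrimitiveRoot ζ N)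
    (hN : Odd N) (hN1 : N ≠ 1) : ζ + ζ⁻¹ ≠ 0 := by
  have hζ0 : ζ ≠ 0 := hζ.ne_zero (by rintro rfl; exact absurd hN (by decide))
  intro h
  have h1 : ζ = ζ⁻¹ := by
    have := CharTwo.add_eq_zero.1 h
    exact this
  have h2 : ζ ^ 2 = 1 := by
    rw [pow_two]
    nth_rewrite 2 [h1]
    exact mul_inv_cancel₀ hζ0
  have h3 := hζ.dvd_of_pow_eq_one 2 h2
  have h4 : N ≤ 2 := Nat.le_of_dvd (by norm_num) h3
  interval_cases N
  · exact absurd hN (by decide)
  · exact hN1 rfl
  · exact absurd hN (by decide)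

namespace PairPSL

variable {F : Type*} [Field F] [CharP F 2]

def X (s : F) : SpecialLinearGroup (Fin 2) F := ⟨!![1, s; 0, 1], by simp [Matrix.det_fin_two]⟩

def Y (F : Type*) [Field F] [CharP F 2] : SpecialLinearGroup (Fin 2) F :=
  ⟨!![0, 1; 1, 0], by simp [Matrix.det_fin_two, CharTwo.neg_eq]⟩

theorem X_sq (s : F) : X s * X s = 1 := by
  apply Subtype.ext
  change !![1, s; 0, 1] * !![1, s; 0, 1] = (1 : Matrix (Fin 2) (Fin 2) F)
  ext i j
  fin_cases i <;> fin_cases j <;> simp [Matrix.mul_apply, Fin.sum_univ_two, CharTwo.add_self_eq_zero]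

theorem Y_sq : Y F * Y F = 1 := by
  apply Subtype.ext
  change !![0, 1; 1, 0] * !![0, 1; 1, 0] = (1 : Matrix (Fin 2) (Fin 2) F)
  ext i j
  fin_cases i <;> fin_cases j <;> simp [Matrix.mul_apply, Fin.sum_univ_two]

theorem XY (s : F) : (X s * Y F).1 = !![s, 1; 1, 0] := by
  change !![1, s; 0, 1] * !![0, 1; 1, 0] = _
  ext i j
  fin_cases i <;> fin_cases j <;> simp [Matrix.mul_apply, Fin.sum_univ_two]

/-- The centre of `SL₂` in characteristic two is trivial. -/
theorem eq_one_of_mem_center {g : SpecialLinearGroup (Fin 2) F}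
    (hg : g ∈ Subgroup.center (SpecialLinearGroup (Fin 2) F)) : g = 1 := by
  obtain ⟨r, hr, hr2⟩ := Matrix.SpecialLinearGroup.mem_center_iff.1 hg
  have h1 : r = 1 := by
    have h2 : (r - 1) ^ 2 = 0 := by
      rw [Fintype.card_fin] at hr
      have h0 := CharTwo.two_eq_zero (R := F)
      linear_combination hr + (1 - r) * h0
    have h3 := pow_eq_zero_iff (two_ne_zero) |>.1 h2
    exact sub_eq_zero.1 h3
  apply Subtype.ext
  rw [← hr2, h1]
  simp

theorem orderOf_mk {g : SpecialLinearGroup (Fin 2) F} (h : g * g = 1) (h1 : g ≠ 1) :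
    orderOf (QuotientGroup.mk g : ProjectiveSpecialLinearGroup (Fin 2) F) = 2 := by
  apply orderOf_eq_prime
  · rw [pow_two, ← QuotientGroup.mk_mul, h]; rfl
  · intro h2
    exact h1 (eq_one_of_mem_center ((QuotientGroup.eq_one_iff g).1 h2))

end PairPSL

open PairPSL in
theorem pair_psl {F : Type*} [Field F] [Fintype F] {n : ℕ} (hn : 2 ≤ n) (hF : Fintype.card F = 2 ^ n) :
    Pair (ProjectiveSpecialLinearGroup (Fin 2) F) n := by
  have hchar : CharP F 2 := by
    obtain ⟨p, hp⟩ := CharP.exists F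
    have hpp : p.Prime := (CharP.char_is_prime_or_zero F p).resolve_right
      (CharP.char_ne_zero_of_finite F p)
    obtain ⟨m, _, hm⟩ := FiniteField.card F p
    rw [hF] at hm
    have h1 : p ∣ 2 ^ n := by
      rw [hm]
      exact dvd_pow_self p m.ne_zero
    have h2 := (Nat.prime_dvd_prime_iff_eq hpp Nat.prime_two).mp (hpp.dvd_of_dvd_pow h1)
    rwa [h2] at hp
  obtain ⟨p, j, hp, hj, hpj, hord⟩ := Arith.exists_dvd hn
  have hodd := Arith.odd_of_dvd_two_pow_add_one (by omega) hpj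
  have hN1 : p ^ j ≠ 1 := by
    intro h
    exact absurd h (Nat.one_lt_pow (by omega) hp.one_lt).ne'
  obtain ⟨ζ, s, hζ, hs, -⟩ := exists_trace (F := F) (q := 2 ^ n) (N := p ^ j)
    (fun x hx => by rw [hF]; exact hx) ⟨n, rfl⟩ hodd hpj
  have : CharP (AlgebraicClosure F) 2 := charP_of_injective_algebraMap (algebraMap F _).injective 2
  have hζ0 : ζ ≠ 0 := hζ.ne_zero (by intro h; rw [h] at hodd; exact absurd hodd (by decide))
  have hs0 : s ≠ 0 := by
    rintro rfl
    rw [map_zero] at hs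
    exact add_inv_ne_zero hζ hodd hN1 hs.symm
  refine ⟨QuotientGroup.mk (X s), QuotientGroup.mk (Y F), orderOf_mk (X_sq s) ?_, orderOf_mk Y_sq ?_, p, j,
    hp, ?_, hj, fun k hk => ?_, fun m hm => ?_⟩
  · intro h
    have h1 := congrFun (congrFun (congrArg Subtype.val h) 0) 1
    exact hs0 (by simpa [X] using h1)
  · intro h
    have h1 := congrFun (congrFun (congrArg Subtype.val h) 0) 1
    simp [Y] at h1
  · rintro rfl
    exact absurd hodd (by rw [Nat.not_odd_iff_even]; exact (Nat.even_pow.2 ⟨even_two, by omega⟩))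
  · rw [← QuotientGroup.mk_mul, ← QuotientGroup.mk_pow, QuotientGroup.eq_one_iff] at hk
    have h1 := eq_one_of_mem_center hk
    have h2 : (X s * Y F).1 ^ k = 1 := by
      have := congrArg Subtype.val h1
      simpa using this
    rw [XY] at h2
    apply hζ.dvd_of_pow_eq_one
    refine pow_eq_one_of_mulVec (algebraMap F (AlgebraicClosure F)) (v := ![ζ, 1]) ?_ ?_ h2
    · have h3 : ζ * ζ⁻¹ = 1 := mul_inv_cancel₀ hζ0
      funext i
      fin_cases i
      · simp [Matrix.mulVec, dotProduct, Fin.sum_univ_two, hs]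
        linear_combination CharTwo.add_self_eq_zero (1 : AlgebraicClosure F) + h3
      · simp [Matrix.mulVec, dotProduct, Fin.sum_univ_two]
    · intro h
      have := congrFun h 1
      simp at this
  · have h1 := hord m hm
    rcases Nat.eq_zero_or_pos m with h2 | h2
    · exact Or.inl h2
    · exact Or.inr (Nat.le_of_dvd h2 h1)

end Cfsg.Agent.BenderMod
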