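import Cfsg.Agent.BenderMod.PairPSL
import Cfsg.Agent.LieRecognition.PSUThreeSylow

/-!
# Two involutions of `PSU₃(2^n)` whose product has large order
-/

set_option autoImplicit false

namespace Cfsg.Agent.BenderMod

open Matrix Cfsg.Agent.LieRecognition Cfsg.Agent.LieRecognition.HermHeis
open Cfsg.Agent.LieRecognition.PSUThreeSylow

namespace PairPSU

variable {F : Type*} [Field F] [CharP F 2] {σ : F →+* F} [hσ : Fact (∀ x, σ (σ x) = x)]

/-- the transvection -/
def X (s : F) (hs : σ s = s) : SUJ σ := emb σ ⟨0, s, by rw [zero_mul, hs, CharTwo.add_self_eq_zero]⟩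

theorem X_val (s : F) (hs : σ s = s) : (X (σ := σ) s hs).1.1 = !![1, 0, s; 0, 1, 0; 0, 0, 1] := by
  rw [X, emb_val, umat]
  simp

omit hσ in
theorem Y_val : (wel σ).1.1 = !![0, 0, 1; 0, 1, 0; 1, 0, 0] := rfl

theorem X_sq (s : F) (hs : σ s = s) : X (σ := σ) s hs * X s hs = 1 := by
  apply Subtype.ext
  apply Subtype.ext
  change (X (σ := σ) s hs).1.1 * (X (σ := σ) s hs).1.1 = (1 : Matrix (Fin 3) (Fin 3) F)
  rw [X_val]
  ext i j
  fin_cases i <;> fin_cases j <;>
    simp [Matrix.mul_apply, Fin.sum_univ_three, CharTwo.add_self_eq_zero]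

omit hσ in
theorem Y_sq : wel σ * wel σ = 1 := by
  apply Subtype.ext
  apply Subtype.ext
  exact Jm_mul_Jm

theorem XY (s : F) (hs : σ s = s) : (X (σ := σ) s hs * wel σ).1.1 = !![s, 0, 1; 0, 1, 0; 1, 0, 0] := by
  change (X (σ := σ) s hs).1.1 * (wel σ).1.1 = _
  rw [X_val, Y_val]
  ext i j
  fin_cases i <;> fin_cases j <;> simp [Matrix.mul_apply, Fin.sum_univ_three]

theorem not_commute {s : F} (hs : σ s = s) (h0 : s ≠ 0) : X (σ := σ) s hs * wel σ ≠ wel σ * X s hs := by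
  intro h
  have h1 : (X (σ := σ) s hs).1.1 * (wel σ).1.1 = (wel σ).1.1 * (X (σ := σ) s hs).1.1 :=
    congrArg (fun g : SUJ σ => g.1.1) h
  rw [X_val, Y_val] at h1
  have h2 := congrFun (congrFun h1 0) 0
  simp [Matrix.mul_apply, Fin.sum_univ_three] at h2
  exact h0 h2

/-- A central element fixing the second basis vector is trivial. -/
theorem eq_one_of_center {A : SUJ σ} (hx : ∃ x : Heis σ, x.a = 1)
    (hA : A ∈ Subgroup.center (SUJ σ)) (h1 : A.1.1 *ᵥ ![0, 1, 0] = ![0, 1, 0]) : A = 1 := by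
  obtain ⟨x, hx⟩ := hx
  have hc : ∀ g : SUJ σ, g.1.1 * A.1.1 = A.1.1 * g.1.1 := fun g =>
    congrArg (fun k : SUJ σ => k.1.1) (Subgroup.mem_center_iff.mp hA g)
  have h2 : A.1.1 *ᵥ ![1, 1, 0] = ![1, 1, 0] := by
    have h3 : (emb σ x).1.1 *ᵥ ![0, 1, 0] = ![1, 1, 0] := by
      rw [emb_val, umat, hx]
      funext i
      fin_cases i <;> simp [Matrix.mulVec, dotProduct, Fin.sum_univ_three]
    rw [← h3, Matrix.mulVec_mulVec, ← hc, ← Matrix.mulVec_mulVec, h1]
  have h3 : A.1.1 *ᵥ ![1, 0, 0] = ![1, 0, 0] := by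
    have h4 : (![1, 0, 0] : Fin 3 → F) = ![1, 1, 0] - ![0, 1, 0] := by
      funext i
      fin_cases i <;> simp
    rw [h4, Matrix.mulVec_sub, h1, h2]
  have h4 : A.1.1 *ᵥ ![0, 0, 1] = ![0, 0, 1] := by
    have h5 : (wel σ).1.1 *ᵥ ![1, 0, 0] = ![0, 0, 1] := by
      rw [Y_val]
      funext i
      fin_cases i <;> simp [Matrix.mulVec, dotProduct, Fin.sum_univ_three]
    rw [← h5, Matrix.mulVec_mulVec, ← hc, ← Matrix.mulVec_mulVec, h3]
  apply Subtype.ext
  apply Subtype.ext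
  change A.1.1 = 1
  ext i j
  have e0 := congrFun h3 i
  have e1 := congrFun h1 i
  have e2 := congrFun h4 i
  simp only [Matrix.mulVec, dotProduct, Fin.sum_univ_three] at e0 e1 e2
  fin_cases i <;> fin_cases j <;> simp_all

end PairPSU

open PairPSU in
theorem pair_psu {F : Type*} [Field F] [Fintype F] {n : ℕ} (hn : 2 ≤ n)
    (hF : Fintype.card F = (2 ^ n) ^ 2) : Pair (Cfsg.PSU 3 F (2 ^ n)) n := by
  have : Fact (Nat.Prime 2) := ⟨Nat.prime_two⟩
  have hF' : Nat.card F = (2 ^ n) ^ 2 := by rw [Nat.card_eq_fintype_card, hF]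
  obtain ⟨hchar, σ, hσ, hs, -, -⟩ := exists_heis_equiv F (by omega) hF'
  have hq : 1 < 2 ^ n := Nat.one_lt_two_pow (by omega)
  obtain ⟨p, j, hp, hj, hpj, hord⟩ := Arith.exists_dvd hn
  have hodd := Arith.odd_of_dvd_two_pow_add_one (by omega) hpj
  have hN1 : p ^ j ≠ 1 := by
    intro h
    exact absurd h (Nat.one_lt_pow (by omega) hp.one_lt).ne'
  obtain ⟨ζ, s, hζ, hs1, hs2⟩ := exists_trace (F := F) (q := 2 ^ n) (N := p ^ j)
    (fun x hx => by rw [hF, pow_two, pow_mul, hx, hx]) ⟨n, rfl⟩ hodd hpj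
  have hσs : σ s = s := by rw [hs, hs2]
  have : CharP (AlgebraicClosure F) 2 := charP_of_injective_algebraMap (algebraMap F _).injective 2
  have hζ0 : ζ ≠ 0 := hζ.ne_zero (by intro h; rw [h] at hodd; exact absurd hodd (by decide))
  have hs0 : s ≠ 0 := by
    rintro rfl
    rw [map_zero] at hs1
    exact add_inv_ne_zero hζ hodd hN1 hs1.symm
  obtain ⟨c, hc⟩ := HermHeis.exists_not_fixed (σ := σ) hq hs hF'
  obtain ⟨T, T', hTT', hT⟩ := exists_T hc
  let e : SUJ σ ≃* Cfsg.SU 3 F (2 ^ n) :=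
    ((conjT hTT').subgroupMap (SUJ σ)).trans (MulEquiv.subgroupCongr (SU_eq_map hs hTT' hT))
  let f : SUJ σ →* Cfsg.PSU 3 F (2 ^ n) :=
    (QuotientGroup.mk' (Subgroup.center (Cfsg.SU 3 F (2 ^ n)))).comp e.toMonoidHom
  have hker : ∀ g : SUJ σ, f g = 1 → g ∈ Subgroup.center (SUJ σ) := by
    intro g hg
    have h1 : e g ∈ Subgroup.center (Cfsg.SU 3 F (2 ^ n)) := by
      rw [← QuotientGroup.eq_one_iff]
      exact hg
    rw [Subgroup.mem_center_iff] at h1 ⊢
    intro k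
    apply e.injective
    rw [map_mul, map_mul]
    exact h1 (e k)
  have horder : ∀ g : SUJ σ, g * g = 1 → g ∉ Subgroup.center (SUJ σ) → orderOf (f g) = 2 := by
    intro g hg hgc
    apply orderOf_eq_prime
    · rw [pow_two, ← map_mul, hg, map_one]
    · exact fun h => hgc (hker g h)
  have hnc := not_commute (σ := σ) hσs hs0
  refine ⟨f (X s hσs), f (wel σ), horder _ (X_sq s hσs) ?_, horder _ Y_sq ?_, p, j, hp, ?_, hj,
    fun k hk => ?_, fun m hm => ?_⟩
  · intro h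
    exact hnc (Subgroup.mem_center_iff.1 h (wel σ)).symm
  · intro h
    exact hnc (Subgroup.mem_center_iff.1 h _)
  · rintro rfl
    exact absurd hodd (by rw [Nat.not_odd_iff_even]; exact (Nat.even_pow.2 ⟨even_two, by omega⟩))
  · rw [← map_mul, ← map_pow] at hk
    have h1 := hker _ hk
    have hval : ((X s hσs * wel σ) ^ k).1.1 = !![s, 0, 1; 0, 1, 0; 1, 0, 0] ^ k := by
      rw [← XY (σ := σ) s hσs]
      simp
    have h2 := eq_one_of_center (HermHeis.exists_heis_a (σ := σ) hq hs hF' 1) h1 (by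
      rw [hval]
      have h3 : !![s, 0, 1; 0, 1, 0; 1, 0, 0] *ᵥ ![(0 : F), 1, 0] = (1 : F) • ![(0 : F), 1, 0] := by
        funext i
        fin_cases i <;> simp [Matrix.mulVec, dotProduct, Fin.sum_univ_three]
      have h4 := pow_mulVec h3 k
      rwa [one_pow, one_smul] at h4)
    have h3 : !![s, 0, 1; 0, 1, 0; 1, 0, 0] ^ k = (1 : Matrix (Fin 3) (Fin 3) F) := by
      rw [← hval, h2]
      rfl
    apply hζ.dvd_of_pow_eq_one
    refine pow_eq_one_of_mulVec (algebraMap F (AlgebraicClosure F)) (v := ![ζ, 0, 1]) ?_ ?_ h3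
    · have h5 : ζ * ζ⁻¹ = 1 := mul_inv_cancel₀ hζ0
      funext i
      fin_cases i
      · simp [Matrix.mulVec, dotProduct, Fin.sum_univ_three, hs1]
        linear_combination CharTwo.add_self_eq_zero (1 : AlgebraicClosure F) + h5
      · simp [Matrix.mulVec, dotProduct, Fin.sum_univ_three]
      · simp [Matrix.mulVec, dotProduct, Fin.sum_univ_three]
    · intro h
      have := congrFun h 2
      simp at this
  · have h1 := hord m hm
    rcases Nat.eq_zero_or_pos m with h2 | h2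
    · exact Or.inl h2
    · exact Or.inr (Nat.le_of_dvd h2 h1)

end Cfsg.Agent.BenderMod
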