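import Cfsg.Agent.BenderMod.PairPSL
import Cfsg.Agent.LieRecognition.SzMatrix

/-!
# Two involutions of `Sz(q)` whose product has large order
-/

set_option autoImplicit false

namespace Cfsg.Agent.BenderMod

open Matrix Cfsg.Agent.LieRecognition.SzMatrix

namespace PairSz

/-- The key identity for a root of unity of order dividing `q ^ 2 + 1`. -/
theorem key {K : Type*} [Field K] [CharP K 2] {ζ : K} {m p : ℕ} (hζ0 : ζ ≠ 0) (hζ : ζ ^ p = 1)
    (hp : p.Prime) (hpq : p ∣ 2 ^ (2 * (2 * m + 1)) + 1) :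
    (ζ + ζ⁻¹) * (ζ + ζ⁻¹) ^ (2 ^ (2 * m + 1)) =
      ((ζ + ζ⁻¹) + (ζ + ζ⁻¹) ^ (2 ^ (2 * m + 1))) ^ (2 ^ (m + 1)) := by
  have hle : 2 ^ (m + 1) ≤ 2 ^ (2 * m + 1) := Nat.pow_le_pow_right (by norm_num) (by omega)
  have hfac : 2 ^ (2 * (2 * m + 1)) + 1 =
      (2 ^ (2 * m + 1) + 2 ^ (m + 1) + 1) * (2 ^ (2 * m + 1) + 1 - 2 ^ (m + 1)) := by
    obtain ⟨c, hc⟩ := Nat.exists_eq_add_of_le hle
    have h1 : 2 ^ (2 * m + 1) + 1 - 2 ^ (m + 1) = c + 1 := by omega
    rw [h1]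
    have h2 : 2 ^ (2 * (2 * m + 1)) = (2 ^ (2 * m + 1)) ^ 2 := by rw [← pow_mul]; congr 1; ring
    have h3 : 2 * 2 ^ (2 * m + 1) = 2 ^ (m + 1) * 2 ^ (m + 1) := by
      rw [← pow_add, mul_comm 2, ← pow_succ]; congr 1; ring
    rw [h2]
    rw [hc] at h3 ⊢
    set r := 2 ^ (m + 1)
    nlinarith [h3]
  set u := ζ ^ (2 ^ (m + 1)) with hu
  have hu0 : u ≠ 0 := pow_ne_zero _ hζ0
  have hu2 : u ^ (2 ^ (m + 1)) = (ζ ^ (2 ^ (2 * m + 1))) ^ 2 := by
    rw [hu, ← pow_mul, ← pow_mul]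
    congr 1
    rw [← pow_add, ← pow_succ]
    congr 1
    ring
  rw [hfac] at hpq
  simp only [add_pow_char_pow, inv_pow]
  rcases hp.dvd_mul.1 hpq with h | h
  · have h1 : ζ ^ (2 ^ (2 * m + 1)) = ζ⁻¹ * u⁻¹ := by
      have h2 : ζ ^ (2 ^ (2 * m + 1)) * (u * ζ) = 1 := by
        obtain ⟨c, hc⟩ := h
        rw [hu, ← mul_assoc, ← pow_add, ← pow_succ, hc, pow_mul, hζ, one_pow]
      rw [eq_inv_of_mul_eq_one_left h2, _root_.mul_inv_rev]
    rw [h1] at hu2 ⊢
    simp only [mul_pow, inv_pow, mul_inv, inv_inv]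
    rw [← hu, hu2]
    simp only [mul_pow, inv_pow, mul_inv, inv_inv]
    field_simp
    ring
  · have h1 : ζ ^ (2 ^ (2 * m + 1)) = ζ⁻¹ * u := by
      have h2 : ζ ^ (2 ^ (2 * m + 1)) * ζ = u := by
        obtain ⟨c, hc⟩ := h
        have h3 : 2 ^ (2 * m + 1) + 1 = p * c + 2 ^ (m + 1) := by omega
        rw [hu, ← pow_succ, h3, pow_add, pow_mul, hζ, one_pow, one_mul]
      rw [← h2]
      field_simp
    rw [h1] at hu2 ⊢
    simp only [mul_pow, inv_pow, mul_inv, inv_inv]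
    rw [← hu, hu2]
    simp only [mul_pow, inv_pow, mul_inv, inv_inv]
    field_simp
    ring

end PairSz

namespace PairSz

variable {F : Type*} [Field F] {θ : F →+* F} {e : ℕ}

theorem uw_val (H : Good F θ e) (b : F) : (H.u 0 b * H.w).1.1 =
    !![θ b, b, 0, 1; b, 0, 1, 0; 0, 1, 0, 0; 1, 0, 0, 0] := by
  change Umat θ 0 b * Cfsg.Agent.LieRecognition.SzMatrix.J F = _
  rw [Umat_def, Cfsg.Agent.LieRecognition.SzMatrix.J]
  ext i j
  fin_cases i <;> fin_cases j <;> simp [Matrix.mul_apply, Fin.sum_univ_four]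

end PairSz

open PairSz in
theorem pair_sz {F : Type*} [Field F] [Fintype F] {m : ℕ} (hm : 1 ≤ m)
    (hF : Fintype.card F = 2 ^ (2 * m + 1)) : Pair ↥(Cfsg.Lie.Sz F (2 ^ (m + 1))) (2 * m + 1) := by
  have : Fact (Nat.Prime 2) := ⟨Nat.prime_two⟩
  have H := good hF
  have hchar : CharP F 2 := charP_two hF
  have hchar2 : CharP (AlgebraicClosure F) 2 :=
    charP_of_injective_algebraMap (algebraMap F _).injective 2
  obtain ⟨p, hp, hpq, hord⟩ := Arith.exists_dvd_sq (a := 2 * m + 1) (by omega)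
  have hodd : Odd p := Arith.odd_of_dvd_two_pow_add_one (by omega) hpq
  obtain ⟨ζ, hζ⟩ := Arith.exists_primitiveRoot (K := AlgebraicClosure F) hodd
  have hζ0 : ζ ≠ 0 := hζ.ne_zero hp.ne_zero
  have hw : ζ + ζ⁻¹ ≠ 0 := add_inv_ne_zero hζ hodd hp.one_lt.ne'
  set w := ζ + ζ⁻¹ with hwdef
  have hkey := key (m := m) hζ0 hζ.pow_eq_one hp hpq
  rw [← hwdef] at hkey
  -- `w ^ (q ^ 2) = w`
  have hwq : (w ^ (2 ^ (2 * m + 1))) ^ (2 ^ (2 * m + 1)) = w := by
    rw [← pow_mul, ← pow_add, hwdef, add_pow_char_pow, inv_pow]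
    have h1 : ζ ^ (2 ^ (2 * m + 1 + (2 * m + 1))) = ζ⁻¹ := by
      apply eq_inv_of_mul_eq_one_left
      obtain ⟨c, hc⟩ := hpq
      have h2 : 2 * m + 1 + (2 * m + 1) = 2 * (2 * m + 1) := by ring
      rw [← pow_succ, h2, hc, pow_mul, hζ.pow_eq_one, one_pow]
    rw [h1, inv_inv, add_comm]
  obtain ⟨s, hs⟩ := Arith.exists_algebraMap_eq (F := F) (x := w + w ^ (2 ^ (2 * m + 1))) (by
    rw [hF, add_pow_char_pow, hwq, add_comm])
  -- `b` with `θ b = s`
  obtain ⟨b, hb⟩ : ∃ b, theta hF b = s :=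
    (Finite.injective_iff_surjective.1 (theta hF).injective) s
  have hb2 : algebraMap F (AlgebraicClosure F) (b ^ 2) = w * w ^ (2 ^ (2 * m + 1)) := by
    rw [← H.sq, hb, theta_apply, map_pow, hs, hkey]
  have hb0 : b ≠ 0 := by
    rintro rfl
    rw [zero_pow two_ne_zero, map_zero] at hb2
    exact mul_ne_zero hw (pow_ne_zero _ hw) hb2.symm
  refine ⟨H.u 0 b, H.w, ?_, ?_, p, 1, hp, by rintro rfl; exact absurd hodd (by decide), le_rfl,
    fun k hk => ?_, fun k hk => ?_⟩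
  · apply orderOf_eq_prime
    · rw [pow_two, H.u_mul, H.add_self, zero_mul, add_zero, H.add_self, H.u_zero]
    · intro h
      rw [← H.u_zero] at h
      exact hb0 (H.u_inj h).2
  · apply orderOf_eq_prime
    · rw [pow_two, H.w_mul_w]
    · intro h
      exact H.w_not_mem_borel (h ▸ one_mem _)
  · rw [pow_one]
    have h1 : (!![theta hF b, b, 0, 1; b, 0, 1, 0; 0, 1, 0, 0; 1, 0, 0, 0] :
        Matrix (Fin 4) (Fin 4) F) ^ k = 1 := by
      rw [← uw_val H b]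
      have h2 := congrArg (fun g : ↥(Cfsg.Lie.Sz F (2 ^ (m + 1))) => g.1.1) hk
      simpa using h2
    apply hζ.dvd_of_pow_eq_one
    refine pow_eq_one_of_mulVec (algebraMap F (AlgebraicClosure F))
      (v := ![ζ * (ζ ^ 2 + 1), ζ * (algebraMap F (AlgebraicClosure F) b * ζ),
        algebraMap F (AlgebraicClosure F) b * ζ, ζ ^ 2 + 1]) ?_ ?_ h1
    · set B := algebraMap F (AlgebraicClosure F) b with hB
      have h2 : (2 : AlgebraicClosure F) = 0 := CharTwo.two_eq_zero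
      have h3 : B ^ 2 = w * w ^ (2 ^ (2 * m + 1)) := by rw [hB, ← map_pow, hb2]
      have h4 : algebraMap F (AlgebraicClosure F) (theta hF b) = w + w ^ (2 ^ (2 * m + 1)) := by
        rw [hb, hs]
      set w' := w ^ (2 ^ (2 * m + 1)) with hw'
      have h5 : w * ζ = ζ ^ 2 + 1 := by rw [hwdef]; field_simp
      clear_value w' w B
      funext i
      fin_cases i
      · simp [Matrix.mulVec, dotProduct, Fin.sum_univ_four, h4, ← hB]
        linear_combination (ζ ^ 2) * h3 + (ζ ^ 2 + 1 + w' * ζ) * h5 + (w' * ζ * (ζ ^ 2 + 1) + (ζ ^ 2 + 1)) * h2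
      · simp [Matrix.mulVec, dotProduct, Fin.sum_univ_four, ← hB]
        linear_combination (B * ζ) * h2
      · simp [Matrix.mulVec, dotProduct, Fin.sum_univ_four]
      · simp [Matrix.mulVec, dotProduct, Fin.sum_univ_four]
    · intro h
      have h2 := congrFun h 3
      have h3 : ζ ^ 2 + 1 = 0 := by simpa using h2
      apply hw
      rw [hwdef]
      have h4 : ζ * (ζ + ζ⁻¹) = 0 := by
        rw [mul_add, mul_inv_cancel₀ hζ0, ← pow_two, h3]
      exact (mul_eq_zero.1 h4).resolve_left hζ0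
  · rw [pow_one] at hk
    have h1 := hord k hk
    rcases Nat.eq_zero_or_pos k with h2 | h2
    · exact Or.inl h2
    · have := Nat.le_of_dvd h2 h1
      exact Or.inr (by omega)

end Cfsg.Agent.BenderMod
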