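import Cfsg.Agent.BenderMod.PairPSL
import Cfsg.Agent.BenderMod.PairPSU
import Cfsg.Agent.BenderMod.PairSz
import Cfsg.Agent.BenderType.Classify

/-!
# The groups in Bender's theorem: elementary abelian subgroups and products of involutions
-/

set_option autoImplicit false

namespace Cfsg.Agent.BenderMod

open Subgroup Cfsg.Agent.BenderType

/-- Every subgroup of exponent two has order at most `2 ^ a`. -/
def Small (G : Type*) [Group G] (a : ℕ) : Prop :=
  ∀ D : Subgroup G, (∀ d ∈ D, d * d = 1) → Nat.card D ≤ 2 ^ a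

theorem isPGroup_of_sq {G : Type*} [Group G] {D : Subgroup G} (h : ∀ d ∈ D, d * d = 1) :
    IsPGroup 2 D := fun d => ⟨1, by
  apply Subtype.ext
  rw [pow_one, pow_two]
  exact h d d.2⟩

theorem small_of_card {G : Type*} [Group G] [Finite G] {a k : ℕ} (h : Nat.card G = 2 ^ a * k)
    (hk : Odd k) : Small G a := by
  intro D hD
  obtain ⟨n, hn⟩ := IsPGroup.iff_card.1 (isPGroup_of_sq hD)
  have h1 : 2 ^ n ∣ 2 ^ a * k := by
    rw [← h, ← hn]
    exact card_subgroup_dvd_card D
  have h2 : 2 ^ n ∣ 2 ^ a := Nat.Coprime.dvd_of_dvd_mul_right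
    (Nat.Coprime.pow_left _ (Nat.coprime_two_left.2 hk)) h1
  rw [hn]
  exact Nat.le_of_dvd (by positivity) h2

theorem small_of_ty {G : Type*} [Group G] [Finite G] {a b : ℕ}
    (h : ∀ S : Sylow 2 G, Inv.Ty (S : Subgroup G) b (2 ^ a)) : Small G a := by
  have : Fact (Nat.Prime 2) := ⟨Nat.prime_two⟩
  intro D hD
  obtain ⟨S, hS⟩ := (isPGroup_of_sq hD).exists_le_sylow
  rw [← (h S).inv]
  refine Nat.card_le_card_of_injective
    (fun d : D => (⟨⟨d.1, hS d.2⟩, Subtype.ext (hD d.1 d.2)⟩ : {x : (S : Subgroup G) // x * x = 1})) ?_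
  intro d e hde
  have h1 := congrArg (fun x : {x : (S : Subgroup G) // x * x = 1} => x.1.1) hde
  exact Subtype.ext h1

theorem Small.congr {G K : Type*} [Group G] [Group K] {a : ℕ} (h : Small G a) (e : G ≃* K) :
    Small K a := by
  intro D hD
  have h1 := h (D.comap e.toMonoidHom) (by
    intro d hd
    apply e.injective
    rw [map_mul, map_one]
    exact hD _ hd)
  have h2 : Nat.card (D.comap e.toMonoidHom) = Nat.card D := by
    refine Nat.card_congr (e.toEquiv.subtypeEquiv fun x => ?_)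
    exact Iff.rfl
  rwa [h2] at h1

theorem charP_two {F : Type*} [Field F] [Fintype F] {n : ℕ} (hF : Fintype.card F = 2 ^ n) : CharP F 2 := by
  obtain ⟨p, hp⟩ := CharP.exists F
  have hpp : p.Prime := (CharP.char_is_prime_or_zero F p).resolve_right
    (CharP.char_ne_zero_of_finite F p)
  obtain ⟨m, _, hm⟩ := FiniteField.card F p
  rw [hF] at hm
  have h1 : p ∣ 2 ^ n := by
    rw [hm]
    exact dvd_pow_self p m.ne_zero
  have h2 := (Nat.prime_dvd_prime_iff_eq hpp Nat.prime_two).mp (hpp.dvd_of_dvd_pow h1)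
  rwa [h2] at hp

/-- The groups in Bender's theorem. -/
theorem exists_of_concl {G : Type*} [Group G] [Finite G] (hG : Classify.Concl G) :
    ∃ a, 2 ≤ a ∧ Pair G a ∧ Small G a := by
  rcases hG with ⟨F, i1, i2, ⟨n, hn, hF⟩, ⟨e⟩⟩ | ⟨F, i1, i2, m, hm, hF, ⟨e⟩⟩ | ⟨F, i1, i2, n, hn, hF, ⟨e⟩⟩
  · refine ⟨n, hn, (pair_psl hn hF).congr e.symm, ?_⟩
    have hchar : CharP F 2 := charP_two hF
    apply small_of_card (k := (2 ^ n) ^ 2 - 1)
    · rw [Nat.card_congr e.toEquiv, Cfsg.Agent.Classification.PSLTwoEvenSylow.card_psl, hF]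
    · have h1 : 1 ≤ (2 ^ n) ^ 2 := Nat.one_le_iff_ne_zero.2 (by positivity)
      have h2 : Even ((2 ^ n) ^ 2) := by
        rw [← pow_mul]
        exact (Nat.even_pow.2 ⟨even_two, by omega⟩)
      rw [← Nat.not_even_iff_odd]
      intro h3
      obtain ⟨u, hu⟩ := h2
      obtain ⟨v, hv⟩ := h3
      omega
  · refine ⟨2 * m + 1, by omega, (pair_sz hm hF).congr e.symm, ?_⟩
    exact small_of_ty (fun S => Classify.ty_sz_of_equiv hm hF e S)
  · refine ⟨n, hn, (pair_psu hn hF).congr e.symm, ?_⟩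
    exact small_of_ty (fun S => Classify.ty_psu_of_equiv (by omega) hF e S)

end Cfsg.Agent.BenderMod
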