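import Cfsg.Agent.BenderMod.Bound
import Cfsg.Agent.BenderMod.Types
import Cfsg.Agent.StrongEmb.Simple

/-!
# Groups with a strongly embedded subgroup: involutions of a Sylow 2-subgroup and modules

Everything is conditional on Bender's theorem `BAll` (a hypothesis).
-/

set_option autoImplicit false

namespace Cfsg.Agent.BenderMod

open Subgroup Cfsg Cfsg.Agent.TwoFusion.StronglyEmbeddedBasic Cfsg.Agent.StrongEmb.Basic
open Cfsg.Agent.StrongEmb.TwoRank Cfsg.Agent.StrongEmb.Split Cfsg.Agent.StrongEmb.Consequences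
open Cfsg.Agent.SuzukiRankOne.Reduction (invClosure mem_invClosure invClosure_normal
  closure_involutions_invClosure)

universe u

/-- Bender's theorem for all finite groups. -/
def BAll : Prop := ∀ (K : Type u) [Group K] [Finite K], BenderHolds K

section Gen

variable {X : Type u} [Group X] [Finite X] {H : Subgroup X}

theorem relIndex_sup_aux {K T : Subgroup X} (hK : K.Normal) :
    T.relIndex (K ⊔ T) = T.relIndex K := by
  have h1 : K.relIndex (T ⊔ K) = K.relIndex T := relIndex_sup_right _ _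
  have h2 := relIndex_mul_relIndex ⊥ K (T ⊔ K) bot_le le_sup_right
  have h3 := relIndex_mul_relIndex ⊥ T (K ⊔ T) bot_le le_sup_right
  have h4 := relIndex_mul_relIndex ⊥ (T ⊓ K) K bot_le inf_le_right
  have h5 := relIndex_mul_relIndex ⊥ (T ⊓ K) T bot_le inf_le_left
  rw [relIndex_bot_left, relIndex_bot_left] at h2 h3 h4 h5
  rw [inf_relIndex_right] at h4
  rw [inf_relIndex_left] at h5
  rw [h1, sup_comm, ← h3, ← h4] at h2
  have h6 : 0 < Nat.card T := Nat.card_pos
  have h7 : 0 < Nat.card ↥(T ⊓ K) := Nat.card_pos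
  rw [← h5] at h2 h6
  have h8 : (Nat.card ↥(T ⊓ K) * K.relIndex T) * T.relIndex K =
      (Nat.card ↥(T ⊓ K) * K.relIndex T) * T.relIndex (K ⊔ T) := by
    rw [← h2]; ring
  exact (Nat.eq_of_mul_eq_mul_left h6 h8).symm

omit [Finite X] in
theorem eq_one_of_odd {O : Subgroup X} (hO : Odd (Nat.card O)) {x : X} (hx : x ∈ O) {n : ℕ}
    (h : x ^ 2 ^ n = 1) : x = 1 := by
  have h1 : orderOf x ∣ 2 ^ n := orderOf_dvd_of_pow_eq_one h
  have h2 : orderOf x ∣ Nat.card O := O.orderOf_dvd_natCard hx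
  have h3 : Nat.Coprime (2 ^ n) (Nat.card O) := Nat.Coprime.pow_left n (Nat.coprime_two_left.2 hO)
  rw [← orderOf_eq_one_iff]
  exact Nat.eq_one_of_dvd_coprimes h3 h1 h2

theorem simple_quotient (hH : IsStronglyEmbedded H) (hr : CommPair X) (hgen : invClosure X = ⊤) :
    IsSimpleGroup (X ⧸ oddCore X) := by
  obtain ⟨h1, h2, -⟩ := quotient_data hH hr
  have hs := isSimpleGroup_invClosure h1 (oddCore_quotient_eq_bot X)
  have htop : invClosure (X ⧸ oddCore X) = ⊤ := by
    have h3 : (invClosure X).map (QuotientGroup.mk' (oddCore X)) ≤ invClosure (X ⧸ oddCore X) := by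
      rw [invClosure, MonoidHom.map_closure, closure_le]
      rintro _ ⟨x, ⟨-, hx⟩, rfl⟩
      exact mem_invClosure (by rw [← map_mul, hx, map_one])
    rw [eq_top_iff]
    rintro x -
    obtain ⟨g, rfl⟩ := QuotientGroup.mk'_surjective (oddCore X) x
    exact h3 ⟨g, hgen ▸ mem_top g, rfl⟩
  rw [htop] at hs
  have hn : Nontrivial (X ⧸ oddCore X) := (Subgroup.topEquiv (G := X ⧸ oddCore X)).symm.toEquiv.nontrivial
  exact IsSimpleGroup.isSimpleGroup_of_surjective
    (Subgroup.topEquiv (G := X ⧸ oddCore X)).toMonoidHom (MulEquiv.surjective _)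

theorem exists_a (hB : BAll.{u}) (hH : IsStronglyEmbedded H) (hr : CommPair X)
    (hgen : invClosure X = ⊤) : ∃ a, 2 ≤ a ∧ Pair (X ⧸ oddCore X) a ∧ Small X a := by
  have hs := simple_quotient hH hr hgen
  obtain ⟨h1, h2, h3⟩ := quotient_data hH hr
  obtain ⟨Q, hQ, -⟩ := hB _ _ h1 h2 h3
  obtain ⟨a, ha, hP, hS⟩ := exists_of_concl (Cfsg.Agent.StrongEmb.Simple.of_isSplit h1 hQ h2)
  refine ⟨a, ha, hP, fun D hD => ?_⟩
  have h4 := hS (D.map (QuotientGroup.mk' (oddCore X))) (by
    rintro _ ⟨d, hd, rfl⟩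
    rw [← map_mul, hD d hd, map_one])
  have h5 : Nat.card (D.map (QuotientGroup.mk' (oddCore X))) = Nat.card D := by
    symm
    have hinj : Function.Injective ((QuotientGroup.mk' (oddCore X)).comp D.subtype) := by
      rw [injective_iff_map_eq_one]
      intro d hd
      have h6 : (d : X) ∈ oddCore X := (QuotientGroup.eq_one_iff _).1 hd
      exact Subtype.ext (eq_one_of_odd (odd_oddCore X) h6 (n := 1) (by
        rw [pow_one, pow_two]; exact hD d d.2))
    have h7 := Nat.card_congr (MonoidHom.ofInjective hinj).toEquiv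
    rw [h7, MonoidHom.range_comp, Subgroup.range_subtype]
  rwa [h5] at h4

theorem exists_normalizer (hB : BAll.{u}) (hH : IsStronglyEmbedded H) (hr : CommPair X)
    (hgen : invClosure X = ⊤) {T : Sylow 2 X} (hT : (T : Subgroup X) ≤ H) {h : X} (hh : h ∈ H) :
    ∃ o ∈ oddCore X, o⁻¹ * h ∈ normalizer ((T : Subgroup X) : Set X) := by
  have : Fact (Nat.Prime 2) := ⟨Nat.prime_two⟩
  have hs := simple_quotient hH hr hgen
  obtain ⟨h1, h2, h3⟩ := quotient_data hH hr
  obtain ⟨Q, hQ, -⟩ := hB _ _ h1 h2 h3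
  obtain ⟨hQ2, hQm⟩ := isPGroup_of_isSplit h1 hQ h2
  set π := QuotientGroup.mk' (oddCore X) with hπ
  have hπs : Function.Surjective π := QuotientGroup.mk'_surjective _
  have hTQ : ((T.mapSurjective hπs : Sylow 2 _) : Subgroup (X ⧸ oddCore X)) ≤ Q := by
    rw [Sylow.coe_mapSurjective]
    rintro _ ⟨x, hx, rfl⟩
    refine hQm _ ⟨x, hT hx, rfl⟩ ?_
    have h4 : IsPGroup 2 (zpowers (π x)) := by
      refine IsPGroup.to_le ((T.isPGroup'.map π)) ?_
      rw [zpowers_le]
      exact ⟨x, hx, rfl⟩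
    obtain ⟨n, hn⟩ := IsPGroup.iff_card.1 h4
    exact ⟨n, by rw [← Nat.card_zpowers, hn]⟩
  have hTQ' : Q = ((T.mapSurjective hπs : Sylow 2 _) : Subgroup (X ⧸ oddCore X)) :=
    Sylow.is_maximal' _ hQ2 hTQ
  rw [Sylow.coe_mapSurjective] at hTQ'
  -- the preimage of `Q`
  set K := Q.comap π with hK
  have hTK : (T : Subgroup X) ≤ K := by
    intro x hx
    rw [hK, mem_comap, hTQ']
    exact ⟨x, hx, rfl⟩
  have hTK' : ((h • T : Sylow 2 X) : Subgroup X) ≤ K := by
    rw [Sylow.coe_subgroup_smul]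
    rintro _ ⟨x, hx, rfl⟩
    rw [hK, mem_comap]
    change π (h * x * h⁻¹) ∈ Q
    rw [map_mul, map_mul, map_inv]
    exact hQ.conj_mem ⟨h, hh, rfl⟩ (hTK hx)
  obtain ⟨k, hk⟩ := MulAction.exists_smul_eq (↥K) (T.subtype hTK) ((h • T).subtype hTK')
  have hk' : (k : X) • T = h • T := by
    apply Sylow.ext
    have e1 : ((T.subtype hTK : Sylow 2 K) : Subgroup K).map K.subtype = (T : Subgroup X) := by
      rw [Sylow.coe_subtype, Subgroup.map_subgroupOf_eq_of_le hTK]
    have e2 : (((h • T).subtype hTK' : Sylow 2 K) : Subgroup K).map K.subtype = ((h • T : Sylow 2 X) : Subgroup X) := by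
      rw [Sylow.coe_subtype, Subgroup.map_subgroupOf_eq_of_le hTK']
    rw [← e2, ← hk]
    ext x
    constructor
    · intro hx
      rw [Sylow.coe_subgroup_smul] at hx
      obtain ⟨y, hy, rfl⟩ := hx
      refine ⟨k * ⟨y, hTK hy⟩ * k⁻¹, ?_, rfl⟩
      rw [Sylow.coe_subgroup_smul]
      exact ⟨⟨y, hTK hy⟩, hy, rfl⟩
    · rintro ⟨y, hy, rfl⟩
      rw [Sylow.coe_subgroup_smul] at hy
      obtain ⟨z, hz, rfl⟩ := hy
      rw [Sylow.coe_subgroup_smul]
      exact ⟨z, hz, rfl⟩
  -- `k = o * s`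
  have hkQ : π (k : X) ∈ (T : Subgroup X).map π := by rw [← hTQ']; exact k.2
  obtain ⟨s, hs, hsk⟩ := hkQ
  refine ⟨k * s⁻¹, ?_, ?_⟩
  · rw [← QuotientGroup.ker_mk' (oddCore X), MonoidHom.mem_ker, map_mul, map_inv, ← hπ, hsk,
      mul_inv_cancel]
  · have h4 : ((k : X) * s⁻¹) • T = h • T := by
      rw [mul_smul, ← hk']
      congr 1
      exact Sylow.smul_eq_iff_mem_normalizer.2 (le_normalizer (inv_mem hs))
    refine Sylow.smul_eq_iff_mem_normalizer.1 ?_
    rw [mul_smul, ← h4, inv_smul_smul]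

/-- The subgroup generated by the elements of odd order of `⟨involutions⟩`. -/
def oddGen (X : Type*) [Group X] : Subgroup X := closure {y | y ∈ invClosure X ∧ Odd (orderOf y)}

omit [Finite X] in
theorem mem_oddGen {y : X} (h : y ∈ invClosure X) (ho : Odd (orderOf y)) : y ∈ oddGen X :=
  subset_closure ⟨h, ho⟩

omit [Finite X] in
theorem oddGen_le : oddGen X ≤ invClosure X := by
  rw [oddGen, closure_le]
  exact fun y hy => hy.1

omit [Finite X] in
theorem conj_pow {a b : X} (ha : a * a = 1) {k : ℕ} (hk : (a * b) ^ (2 * k + 1) = 1)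
    (hb : b * b = 1) : (a * b) ^ k * a * ((a * b) ^ k)⁻¹ = b := by
  have hai : a⁻¹ = a := inv_eq_of_mul_eq_one_right ha
  have hbi : b⁻¹ = b := inv_eq_of_mul_eq_one_right hb
  have hsc : SemiconjBy a (a * b) (a * b)⁻¹ := by
    show a * (a * b) = (a * b)⁻¹ * a
    rw [mul_inv_rev, hai, hbi, ← mul_assoc, ha, one_mul, mul_assoc, ha, mul_one]
  have hk1 : a * ((a * b) ^ k)⁻¹ = (a * b) ^ k * a := by
    have := (hsc.inv_right.pow_right k).eq
    rw [inv_inv, inv_pow] at this
    exact this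
  rw [mul_assoc, hk1, ← mul_assoc, ← pow_add, ← two_mul]
  have h1 : (a * b) ^ (2 * k) = (a * b)⁻¹ := by
    rw [eq_inv_iff_mul_eq_one, ← pow_succ]
    exact hk
  rw [h1, mul_inv_rev, hai, hbi, mul_assoc, ha, mul_one]

/-- The involutions of `X` are conjugate under the group generated by the elements of odd order
of the group they generate. -/
theorem conj_odd (hH : IsStronglyEmbedded H) {a b : X} (ha : orderOf a = 2) (hb : orderOf b = 2) :
    ∃ g ∈ oddGen X, g * a * g⁻¹ = b := by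
  have key : ∀ a b : X, orderOf a = 2 → orderOf b = 2 → Odd (orderOf (a * b)) →
      ∃ g ∈ oddGen X, g * a * g⁻¹ = b := by
    intro a b ha hb ho
    have hab : a * b ∈ oddGen X :=
      mem_oddGen (mul_mem (mem_invClosure_of_orderOf ha) (mem_invClosure_of_orderOf hb)) ho
    obtain ⟨k, hk⟩ := ho
    exact ⟨(a * b) ^ k, pow_mem hab k, conj_pow (mul_self_of_orderOf ha)
      (by rw [← hk]; exact pow_orderOf_eq_one _) (mul_self_of_orderOf hb)⟩
  have key2 : ∀ a b : X, a ∈ H → orderOf a = 2 → orderOf b = 2 → ∃ g ∈ oddGen X, g * a * g⁻¹ = b := by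
    intro a b haH ha hb
    by_cases hbH : b ∈ H
    · obtain ⟨u, hu, hu2⟩ := exists_involution_notMem hH
      obtain ⟨g, hg, hg1⟩ := key a u ha hu2 (odd_orderOf_mul hH haH ha hu hu2)
      obtain ⟨k, hk, hk1⟩ := key b u hb hu2 (odd_orderOf_mul hH hbH hb hu hu2)
      refine ⟨k⁻¹ * g, mul_mem (inv_mem hk) hg, ?_⟩
      have : k⁻¹ * g * a * (k⁻¹ * g)⁻¹ = k⁻¹ * (g * a * g⁻¹) * k := by group
      rw [this, hg1, ← hk1]
      group
    · exact key a b ha hb (odd_orderOf_mul hH haH ha hbH hb)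
  obtain ⟨t, ht, ht2⟩ := exists_involution hH
  obtain ⟨g, hg, hg1⟩ := key2 t a ht ht2 ha
  obtain ⟨k, hk, hk1⟩ := key2 t b ht ht2 hb
  refine ⟨k * g⁻¹, mul_mem hk (inv_mem hg), ?_⟩
  have : k * g⁻¹ * a * (k * g⁻¹)⁻¹ = k * (g⁻¹ * a * g) * k⁻¹ := by group
  rw [this, ← hg1, ← hk1]
  group

theorem conj_gen (hB : BAll.{u}) (hH : IsStronglyEmbedded H) (hr : CommPair X)
    (hgen : invClosure X = ⊤) {T : Sylow 2 X} (hT : (T : Subgroup X) ≤ H) {t t' : X}
    (ht : t ∈ (T : Subgroup X)) (ht' : t' ∈ (T : Subgroup X)) (h2 : orderOf t = 2)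
    (h2' : orderOf t' = 2) :
    ∃ g ∈ normalizer ((T : Subgroup X) : Set X), g ∈ oddGen X ∧ g * t * g⁻¹ = t' := by
  obtain ⟨x, hxo, hx⟩ := conj_odd hH h2 h2'
  have hxH : x ∈ H := mem_of_conj_mem hH (hT ht) h2 (by rw [hx]; exact hT ht')
  obtain ⟨o, ho, hn⟩ := exists_normalizer hB hH hr hgen hT hxH
  have hoo : Odd (orderOf o) :=
    Odd.of_dvd_nat (odd_oddCore X) ((oddCore X).orderOf_dvd_natCard ho)
  refine ⟨o⁻¹ * x, hn, mul_mem (inv_mem (mem_oddGen (hgen ▸ mem_top o) hoo)) hxo, ?_⟩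
  have h3 : o⁻¹ * x * t * (o⁻¹ * x)⁻¹ = o⁻¹ * t' * o := by rw [← hx]; group
  have h4 : o⁻¹ * t' * o ∈ (T : Subgroup X) := by
    rw [← h3]
    exact (mem_normalizer_iff.1 hn t).1 ht
  rw [h3]
  have h5 : o⁻¹ * t' * o * t'⁻¹ ∈ oddCore X := by
    have e : o⁻¹ * t' * o * t'⁻¹ = o⁻¹ * (t' * o * t'⁻¹) := by group
    rw [e]
    exact mul_mem (inv_mem ho) ((inferInstance : (oddCore X).Normal).conj_mem o ho t')
  have h6 : o⁻¹ * t' * o * t'⁻¹ ∈ (T : Subgroup X) := mul_mem h4 (inv_mem ht')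
  obtain ⟨n, hn⟩ := T.isPGroup' ⟨_, h6⟩
  have h7 := eq_one_of_odd (odd_oddCore X) h5 (congrArg Subtype.val hn)
  exact mul_inv_eq_one.1 h7

theorem central_gen (hB : BAll.{u}) (hH : IsStronglyEmbedded H) (hr : CommPair X)
    (hgen : invClosure X = ⊤) {T : Sylow 2 X} (hT : (T : Subgroup X) ≤ H) {t x : X}
    (ht : t ∈ (T : Subgroup X)) (h2 : orderOf t = 2) (hx : x ∈ (T : Subgroup X)) :
    t * x = x * t := by
  have : Fact (Nat.Prime 2) := ⟨Nat.prime_two⟩
  have hnt : Nontrivial (T : Subgroup X) := ⟨⟨t, ht⟩, 1, fun h => by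
    have h3 : t = 1 := congrArg Subtype.val h
    rw [h3, orderOf_one] at h2
    exact absurd h2 (by norm_num)⟩
  have hc := T.isPGroup'.center_nontrivial
  have hfc : 2 ∣ Nat.card (Subgroup.center (T : Subgroup X)) := by
    obtain ⟨n, hn⟩ := IsPGroup.iff_card.1 (T.isPGroup'.to_subgroup (Subgroup.center (T : Subgroup X)))
    rw [hn]
    refine dvd_pow_self 2 ?_
    rintro rfl
    rw [pow_zero] at hn
    exact absurd (Finite.one_lt_card_iff_nontrivial.2 hc) (by rw [hn]; exact lt_irrefl 1)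
  obtain ⟨z, hz⟩ := exists_prime_orderOf_dvd_card' 2 hfc
  have hz2 : orderOf (z.1 : X) = 2 := by rw [orderOf_coe, orderOf_coe]; exact hz
  obtain ⟨g, hg, -, hgt⟩ := conj_gen hB hH hr hgen hT z.1.2 ht hz2 h2
  have h3 : g⁻¹ * x * g ∈ (T : Subgroup X) := by
    have := (mem_normalizer_iff.1 (inv_mem hg) x).1 hx
    simpa using this
  have h4 : (z.1 : X) * (g⁻¹ * x * g) = (g⁻¹ * x * g) * z.1 :=
    congrArg Subtype.val (Subgroup.mem_center_iff.1 z.2 ⟨_, h3⟩).symm
  rw [← hgt]
  calc g * z.1 * g⁻¹ * x = g * (z.1 * (g⁻¹ * x * g)) * g⁻¹ := by group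
    _ = g * ((g⁻¹ * x * g) * z.1) * g⁻¹ := by rw [h4]
    _ = x * (g * z.1 * g⁻¹) := by group

end Gen

section Main

variable {X : Type u} [Group X] [Finite X] {H : Subgroup X}

/-- Without commuting pairs a 2-subgroup has at most one involution. -/
theorem eq_of_not_commPair (hr : ¬ CommPair X) {T : Subgroup X} (hT : IsPGroup 2 T) {t t' : X}
    (ht : t ∈ T) (ht' : t' ∈ T) (h2 : orderOf t = 2) (h2' : orderOf t' = 2) : t = t' := by
  have h1 := mul_mem_oddCore_of_not_commPair hr h2 h2'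
  obtain ⟨n, hn⟩ := hT ⟨t * t', mul_mem ht ht'⟩
  have h3 := eq_one_of_odd (odd_oddCore X) h1 (congrArg Subtype.val hn)
  have h4 : t' * t' = 1 := mul_self_of_orderOf h2'
  exact mul_right_cancel (h3.trans h4.symm)

/-- The Sylow subgroup of `⟨involutions⟩`. -/
theorem exists_sylow_invClosure (T : Sylow 2 X) :
    ∃ P : Sylow 2 (invClosure X), (P : Subgroup (invClosure X)) = (T : Subgroup X).subgroupOf (invClosure X) := by
  have : Fact (Nat.Prime 2) := ⟨Nat.prime_two⟩
  have hLn := invClosure_normal X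
  have hP : IsPGroup 2 ((T : Subgroup X).subgroupOf (invClosure X)) :=
    T.isPGroup'.comap_of_injective (invClosure X).subtype (invClosure X).subtype_injective
  have hidx : ¬ 2 ∣ ((T : Subgroup X).subgroupOf (invClosure X)).index := by
    intro h
    apply T.not_dvd_index
    have h1 : (T : Subgroup X).relIndex (invClosure X) ∣ (T : Subgroup X).index := by
      have h2 : (T : Subgroup X).relIndex (invClosure X) =
          (T : Subgroup X).relIndex (invClosure X ⊔ T) := by
        rw [← Cfsg.Agent.BenderMod.relIndex_sup_aux hLn]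
      rw [h2]
      exact relIndex_dvd_index_of_le le_sup_right
    exact h.trans h1
  exact ⟨hP.toSylow hidx, rfl⟩

omit [Finite X] in
theorem map_oddGen_le : (oddGen (invClosure X)).map (invClosure X).subtype ≤ oddGen X := by
  rw [oddGen, MonoidHom.map_closure, closure_le]
  rintro _ ⟨y, ⟨-, hy⟩, rfl⟩
  exact mem_oddGen y.2 (by rw [← orderOf_coe] at hy; exact hy)

/-- Two involutions of a Sylow 2-subgroup are conjugate by an element preserving the set of its
involutions. -/
theorem exists_conj_inv (hB : BAll.{u}) (hH : IsStronglyEmbedded H) {T : Sylow 2 X}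
    (hT : (T : Subgroup X) ≤ H) {t t' : X} (ht : t ∈ (T : Subgroup X)) (ht' : t' ∈ (T : Subgroup X))
    (h2 : orderOf t = 2) (h2' : orderOf t' = 2) :
    ∃ g ∈ oddGen X, g * t * g⁻¹ = t' ∧
      ∀ u ∈ (T : Subgroup X), orderOf u = 2 → g * u * g⁻¹ ∈ (T : Subgroup X) := by
  by_cases hr : CommPair X
  · obtain ⟨P, hP⟩ := exists_sylow_invClosure T
    have hPH : (P : Subgroup (invClosure X)) ≤ H.subgroupOf (invClosure X) := by
      rw [hP]
      exact comap_mono hT
    have hmem : ∀ {u : X} (hu : u ∈ (T : Subgroup X)) (hu2 : orderOf u = 2),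
        (⟨u, mem_invClosure_of_orderOf hu2⟩ : invClosure X) ∈ (P : Subgroup (invClosure X)) := by
      intro u hu hu2
      rw [hP]
      exact hu
    obtain ⟨g, hg, hgo, hgt⟩ := conj_gen hB (stronglyEmbedded_invClosure hH) (commPair_invClosure hr)
      (closure_involutions_invClosure X) hPH (hmem ht h2) (hmem ht' h2')
      (by rw [Subgroup.orderOf_mk, h2]) (by rw [Subgroup.orderOf_mk, h2'])
    refine ⟨g.1, map_oddGen_le ⟨g, hgo, rfl⟩, congrArg Subtype.val hgt, fun u hu hu2 => ?_⟩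
    have h3 := (mem_normalizer_iff.1 hg _).1 (hmem hu hu2)
    rw [hP] at h3
    exact h3
  · refine ⟨1, one_mem _, ?_, fun u hu _ => by simpa using hu⟩
    rw [one_mul, inv_one, mul_one]
    exact eq_of_not_commPair hr T.isPGroup' ht ht' h2 h2'

theorem comm_inv (hB : BAll.{u}) (hH : IsStronglyEmbedded H) {T : Sylow 2 X}
    (hT : (T : Subgroup X) ≤ H) {t t' : X} (ht : t ∈ (T : Subgroup X)) (ht' : t' ∈ (T : Subgroup X))
    (h2 : orderOf t = 2) (h2' : orderOf t' = 2) : t * t' = t' * t := by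
  by_cases hr : CommPair X
  · obtain ⟨P, hP⟩ := exists_sylow_invClosure T
    have hPH : (P : Subgroup (invClosure X)) ≤ H.subgroupOf (invClosure X) := by
      rw [hP]
      exact comap_mono hT
    have hmem : ∀ {u : X} (hu : u ∈ (T : Subgroup X)) (hu2 : orderOf u = 2),
        (⟨u, mem_invClosure_of_orderOf hu2⟩ : invClosure X) ∈ (P : Subgroup (invClosure X)) := by
      intro u hu hu2
      rw [hP]
      exact hu
    exact congrArg Subtype.val (central_gen hB (stronglyEmbedded_invClosure hH)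
      (commPair_invClosure hr) (closure_involutions_invClosure X) hPH (hmem ht h2)
      (by rw [Subgroup.orderOf_mk, h2]) (hmem ht' h2'))
  · rw [eq_of_not_commPair hr T.isPGroup' ht ht' h2 h2']

omit [Finite X] in
theorem card_le_two_of_not_commPair (hr : ¬ CommPair X) {D : Subgroup X}
    (hD : ∀ d ∈ D, d * d = 1) : Nat.card D ≤ 2 := by
  by_cases h1 : ∀ d ∈ D, d = 1
  · have h2 : D = ⊥ := (eq_bot_iff_forall D).2 h1
    rw [h2, Subgroup.card_bot]
    norm_num
  · push Not at h1
    obtain ⟨d0, hd0, hd01⟩ := h1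
    have hle : D ≤ zpowers d0 := by
      intro d hd
      by_cases hd1 : d = 1
      · rw [hd1]; exact one_mem _
      · by_cases hdd : d = d0
        · rw [hdd]; exact mem_zpowers d0
        · exfalso
          apply hr
          refine ⟨d, d0, orderOf_eq_two_of_mul_self (hD d hd) hd1,
            orderOf_eq_two_of_mul_self (hD d0 hd0) hd01, hdd, ?_⟩
          have h3 := hD _ (mul_mem hd hd0)
          have h4 : d⁻¹ = d := inv_eq_of_mul_eq_one_right (hD d hd)
          have h5 : d0⁻¹ = d0 := inv_eq_of_mul_eq_one_right (hD d0 hd0)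
          have h6 : (d * d0)⁻¹ = d * d0 := inv_eq_of_mul_eq_one_right h3
          rw [mul_inv_rev, h4, h5] at h6
          exact h6.symm
    have h3 : Nat.card (zpowers d0) = 2 := by
      rw [Nat.card_zpowers]
      exact orderOf_eq_two_of_mul_self (hD d0 hd0) hd01
    have : Finite (zpowers d0) := Nat.finite_of_card_ne_zero (by rw [h3]; norm_num)
    rw [← h3]
    exact Nat.card_le_card_of_injective (Subgroup.inclusion hle) (Subgroup.inclusion_injective hle)

/-- **The module bound.** -/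
theorem module_bound (hB : BAll.{u}) (hH : IsStronglyEmbedded H) {M : Type*} [CommGroup M]
    [Finite M] (hM : ∀ m : M, m * m = 1) (f : invClosure X →* MulAut M) (hf : f ≠ 1)
    {t : invClosure X} (ht : orderOf t = 2) {D : Subgroup X} (hD : ∀ d ∈ D, d * d = 1) :
    Nat.card D * Nat.card (fix (f t)) ≤ Nat.card M := by
  have hconj : ∀ x y : invClosure X, orderOf x = 2 → orderOf y = 2 →
      ∃ g : invClosure X, g * x * g⁻¹ = y := by
    intro x y hx hy
    exact isConj_iff.1 (isConj_of_involutions (stronglyEmbedded_invClosure hH) x y hx hy)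
  have hft : f t ≠ 1 := by
    intro h
    apply hf
    have h1 : (⊤ : Subgroup (invClosure X)) ≤ f.ker := by
      rw [← closure_involutions_invClosure X]
      refine (closure_le f.ker).2 ?_
      rintro s ⟨hs1, hs2⟩
      obtain ⟨g, hg⟩ := hconj t s ht (orderOf_eq_two_of_mul_self hs2 hs1)
      rw [← hg]
      exact (inferInstance : f.ker.Normal).conj_mem t (MonoidHom.mem_ker.2 h) g
    ext x : 1
    exact MonoidHom.mem_ker.1 (h1 (mem_top x))
  by_cases hr : CommPair X
  · obtain ⟨a, -, hP, hS⟩ := exists_a hB (stronglyEmbedded_invClosure hH) (commPair_invClosure hr)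
      (closure_involutions_invClosure X)
    have h1 := bound (odd_oddCore (invClosure X)) (fun K hK hK2 => le_oddCore hK hK2) hP hM hconj f
      ht hft
    have hDL : D ≤ invClosure X := fun d hd => mem_invClosure (hD d hd)
    have h2 : Nat.card D ≤ 2 ^ a := by
      have h3 := hS (D.subgroupOf (invClosure X)) (fun d hd => Subtype.ext (hD d.1 hd))
      rwa [Nat.card_congr (subgroupOfEquivOfLe hDL).toEquiv] at h3
    exact (Nat.mul_le_mul_right _ h2).trans h1
  · have h1 := card_le_two_of_not_commPair hr hD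
    have h2 : fix (f t) ≠ ⊤ := by
      intro h
      apply hft
      ext m
      have : m ∈ fix (f t) := h ▸ mem_top m
      exact this
    have h3 : 2 ≤ (fix (f t)).index := by
      have h4 : (fix (f t)).index ≠ 0 := index_ne_zero_of_finite
      have h5 : (fix (f t)).index ≠ 1 := fun h => h2 (index_eq_one.1 h)
      omega
    rw [← Subgroup.card_mul_index (fix (f t)), mul_comm (Nat.card (fix (f t)))]
    exact Nat.mul_le_mul_right _ (h1.trans h3)

end Main

end Cfsg.Agent.BenderMod
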